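import Cfsg.Agent.Lib.Sporadic.LyGTwo.Letters
import Cfsg.Agent.Lib.Sporadic.LySub.Ab.Valid
import Cfsg.Agent.Lib.Sporadic.LySub.Abc.Valid
import Cfsg.Agent.Lib.Sporadic.LySub.Gt.Valid

/-!
# The group of the relators in four letters has at most 5859000000 elements (owner: helper25)
-/

set_option autoImplicit false
set_option maxRecDepth 20000

namespace CfsgLib.Sporadic.LyGTwo

open CfsgLib.Sporadic CfsgLib.Sporadic.PairEnum

theorem ab_rels : LySub.Ab.cert.rels.all (fun w => decide (w ∈ words44)) = true := by decide +kernel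

theorem abc_rels : LySub.Abc.cert.rels.all (fun w => decide (w ∈ words44)) = true := by decide +kernel

theorem gt_rels : LySub.Gt.cert.rels.all (fun w => decide (w ∈ words44)) = true := by decide +kernel

theorem setupOf {C : PairEnum.Cert} (h : C.rels.all (fun w => decide (w ∈ words44)) = true) :
    C.Setup (actLetter (MonoidHom.id P4)) :=
  setup _ fun w hw => L_rel (of_decide_eq_true (List.all_eq_true.1 h w hw))

/-- The subgroup of a list of letters. -/
noncomputable def subOf (l : List ℕ) : Subgroup P4 :=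
  Subgroup.closure {g | ∃ x ∈ l, g = actLetter (MonoidHom.id P4) x}

theorem letter_mem {l : List ℕ} {k : ℕ} (hk : k ∈ l) :
    (([k] : List ℕ).reverse.map (actLetter (MonoidHom.id P4))).prod ∈ subOf l := by
  have h : actLetter (MonoidHom.id P4) k ∈ subOf l := Subgroup.subset_closure ⟨k, hk, rfl⟩
  simpa using h

theorem card_P4 : Finite P4 ∧ Nat.card P4 ≤ 5859000000 := by
  obtain ⟨_, h1⟩ : Finite (subOf [0, 2]) ∧ Nat.card (subOf [0, 2]) ≤ 480 := by
    simpa [show LySub.Ab.cert.n = 480 from rfl] using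
      Cert.card_le (setupOf ab_rels) LySub.Ab.valid ⊥ (subOf [0, 2])
        (fun w hw => by rw [show LySub.Ab.cert.subs = [] from rfl] at hw; simp at hw) le_rfl
  obtain ⟨_, h2⟩ : Finite (subOf [0, 2, 4]) ∧ Nat.card (subOf [0, 2, 4]) ≤ 3125 * 480 := by
    have h := Cert.card_le (setupOf abc_rels) LySub.Abc.valid (subOf [0, 2]) (subOf [0, 2, 4])
      (fun w hw => by
        rw [show LySub.Abc.cert.subs = [[0], [2]] from rfl] at hw
        simp only [List.mem_cons, List.not_mem_nil, or_false] at hw
        rcases hw with rfl | rfl <;> exact letter_mem (by decide)) le_rfl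
    exact ⟨h.1, h.2.trans (by rw [show LySub.Abc.cert.n = 3125 from rfl]; exact Nat.mul_le_mul_left _ h1)⟩
  have htop : (⊤ : Subgroup P4) ≤ subOf [0, 2, 4, 6] := by
    rw [← L_closure, Subgroup.closure_le]
    rintro _ ⟨x, hx, rfl⟩
    have := inv_mem (Subgroup.subset_closure (G := P4) (k := {g | ∃ y ∈ ([0, 2, 4, 6] : List ℕ),
      g = actLetter (MonoidHom.id P4) y}) ⟨x, hx, rfl⟩)
    simpa [actLetter, subOf] using this
  have h := Cert.card_le (setupOf gt_rels) LySub.Gt.valid (subOf [0, 2, 4]) ⊤
    (fun w hw => by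
      rw [show LySub.Gt.cert.subs = [[0], [2], [4]] from rfl] at hw
      simp only [List.mem_cons, List.not_mem_nil, or_false] at hw
      rcases hw with rfl | rfl | rfl <;> exact letter_mem (by decide))
    (by rw [show LySub.Gt.cert.kl = [0, 2, 4, 6] from rfl]; exact htop)
  have e : Nat.card (⊤ : Subgroup P4) = Nat.card P4 := Nat.card_congr Subgroup.topEquiv.toEquiv
  rw [e, show LySub.Gt.cert.n = 3906 from rfl] at h
  obtain ⟨hf, hle⟩ := h
  exact ⟨Finite.of_equiv _ Subgroup.topEquiv.toEquiv, hle.trans ((Nat.mul_le_mul_left _ h2).trans (by norm_num))⟩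

end CfsgLib.Sporadic.LyGTwo
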