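import Cfsg.Agent.Lib.Sporadic.LyGroup.Words
import Cfsg.Agent.Lib.Sporadic.PairEnum.Sound

/-!
# The group presented by the relators in four letters (owner: helper25)
-/

set_option autoImplicit false
set_option maxRecDepth 20000

namespace CfsgLib.Sporadic.LyGTwo

open CfsgLib.Sporadic.PairEnum (flp)

/-- A letter as an element of the free group. -/
def fr (k : ℕ) : FreeGroup (Fin 4) :=
  if h : k / 2 < 4 then (if k % 2 = 0 then FreeGroup.of ⟨k / 2, h⟩ else (FreeGroup.of ⟨k / 2, h⟩)⁻¹) else 1

/-- The relators in the four generators. -/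
def words44 : List (List ℕ) := LyGroup.wordsFour

/-- The relators as elements. -/
def rels : Set (FreeGroup (Fin 4)) := {r | ∃ w ∈ words44, (w.map fr).prod = r}

/-- The presented group. -/
abbrev P4 : Type := PresentedGroup rels

/-- A letter in the presented group. -/
def L (k : ℕ) : P4 := PresentedGroup.mk rels (fr k)

theorem flp_eq (k : ℕ) : flp k = k ^^^ 1 := rfl

theorem fr_flp (k : ℕ) : fr (flp k) = (fr k)⁻¹ := by
  have hd : (k ^^^ 1) / 2 = k / 2 := by
    rw [← Nat.shiftRight_one, Nat.shiftRight_xor_distrib, Nat.shiftRight_one]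
    simp
  have hm : (k ^^^ 1) % 2 = 1 - k % 2 := by
    have := Nat.xor_mod_two_eq_one (a := k) (b := 1)
    omega
  rw [flp_eq]
  unfold fr
  by_cases h : k / 2 < 4
  · have h' : (k ^^^ 1) / 2 < 4 := by omega
    rw [dif_pos h, dif_pos h']
    have e : (⟨(k ^^^ 1) / 2, h'⟩ : Fin 4) = ⟨k / 2, h⟩ := Fin.ext hd
    rw [e, hm]
    rcases Nat.mod_two_eq_zero_or_one k with hk | hk <;> simp [hk]
  · have h' : ¬ (k ^^^ 1) / 2 < 4 := by omega
    rw [dif_neg h, dif_neg h', inv_one]

theorem L_flp (k : ℕ) : L (flp k) = (L k)⁻¹ := by rw [L, fr_flp, map_inv]; rfl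

theorem L_big : L 15 = 1 := by simp [L, fr]

theorem L_rel {w : List ℕ} (hw : w ∈ words44) : (w.map L).prod = 1 := by
  have h := PresentedGroup.one_of_mem (rels := rels) (x := (w.map fr).prod) ⟨w, hw, rfl⟩
  rwa [map_list_prod, List.map_map] at h

theorem L_closure : Subgroup.closure {g | ∃ x ∈ ([0, 2, 4, 6] : List ℕ), g = L x} = ⊤ := by
  rw [eq_top_iff, ← PresentedGroup.closure_range_of rels, Subgroup.closure_le]
  rintro _ ⟨i, rfl⟩
  refine Subgroup.subset_closure ⟨2 * i.val, ?_, ?_⟩
  · fin_cases i <;> simp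
  · fin_cases i <;> rfl

/-- Letters of a certificate in a quotient: the inverse of the image. -/
noncomputable def actLetter {G : Type*} [Group G] (f : P4 →* G) (k : ℕ) : G := (f (L k))⁻¹

variable {G : Type*} [Group G] (f : P4 →* G)

theorem prod_actLetter (w : List ℕ) : (w.reverse.map (actLetter f)).prod = (f (w.map L).prod)⁻¹ := by
  rw [map_list_prod, List.map_map, List.prod_inv_reverse, List.map_map, ← List.map_reverse]
  rfl

theorem actLetter_flp (k : ℕ) : actLetter f (flp k) = (actLetter f k)⁻¹ := by simp [actLetter, L_flp]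

theorem actLetter_eq : actLetter f CfsgLib.ThreeTrans.CosetIndex.eqLetter = 1 := by
  simp [actLetter, CfsgLib.ThreeTrans.CosetIndex.eqLetter, L_big]

/-- The hypotheses of a certificate from its relators. -/
theorem setup {C : PairEnum.Cert} (h : ∀ w ∈ C.rels, f (w.map L).prod = 1) : C.Setup (actLetter f) where
  inv := actLetter_flp f
  eq := actLetter_eq f
  rel w hw := by rw [prod_actLetter, h w hw, inv_one]

end CfsgLib.Sporadic.LyGTwo
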