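import Cfsg.Agent.Lib.Sporadic.LyGTwo.Data
import Cfsg.Agent.Lib.Sporadic.LyGTwo.Letters
import Cfsg.Agent.Lib.Sporadic.LyRep.Packed
import Cfsg.Prelude.Def_ChevG2

/-!
# The adjoint matrices of the four generators (owner: helper25)
-/

set_option autoImplicit false
set_option maxRecDepth 20000

namespace CfsgLib.Sporadic.LyGTwo

open CfsgLib.Sporadic.LyRep (Mat toMat rowsOK enc enc_injective dmul dmul_enc maskN packF)
open CfsgLib.Sporadic.PairEnum (flp)

instance fact_prime_five : Fact (Nat.Prime 5) := ⟨Nat.prime_five⟩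

theorem map_fr {H : Type*} [Group H] (f : FreeGroup (Fin 4) →* H) (v : ℕ → H) (hv : ∀ k, v (flp k) = (v k)⁻¹)
    (hf : ∀ i : Fin 4, f (FreeGroup.of i) = v (2 * i.val)) {k : ℕ} (hk : k < 8) : f (fr k) = v k := by
  have even : ∀ i : Fin 4, f (fr (2 * i.val)) = v (2 * i.val) := fun i => by
    rw [← hf i]
    congr 1
    fin_cases i <;> rfl
  obtain ⟨i, h | h⟩ : ∃ i : Fin 4, k = 2 * i.val ∨ k = flp (2 * i.val) := by
    interval_cases k
    exacts [⟨0, Or.inl rfl⟩, ⟨0, Or.inr rfl⟩, ⟨1, Or.inl rfl⟩, ⟨1, Or.inr rfl⟩, ⟨2, Or.inl rfl⟩,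
      ⟨2, Or.inr rfl⟩, ⟨3, Or.inl rfl⟩, ⟨3, Or.inr rfl⟩]
  · rw [h, even]
  · rw [h, fr_flp, map_inv, even, hv]

/-- the rows of a letter -/
def adm (k : ℕ) : List (List ℕ) := adRows.getD k []

theorem adm_ok : ((List.range 8).all fun k => rowsOK 14 (adm k)) = true := by decide +kernel

/-- the packed identity in degree fourteen -/
def idAd : List ℕ := (List.range 14).map fun i => 2 ^ (24 * i)

theorem enc_one_ad : enc (1 : Mat 14) = idAd := by decide +kernel

/-- the packed value of a word -/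
noncomputable def evalAd (w : List ℕ) : List ℕ :=
  List.rec (motive := fun _ => List ℕ) idAd (fun x _ ih => dmul (maskN 14) (adm x) ih) w

/-- a letter as a matrix -/
def adMat (k : ℕ) : Mat 14 := toMat 14 (adm k)

theorem adm_lt {k : ℕ} (hk : k < 8) : rowsOK 14 (adm k) = true :=
  List.all_eq_true.1 adm_ok k (List.mem_range.2 hk)

theorem evalAd_eq : ∀ {w : List ℕ}, (∀ x ∈ w, x < 8) → evalAd w = enc (w.map adMat).prod
  | [], _ => by rw [List.map_nil, List.prod_nil, enc_one_ad]; rfl
  | x :: w, h => by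
    rw [List.map_cons, List.prod_cons, adMat, ← dmul_enc (by norm_num) (adm_lt (h x List.mem_cons_self)),
      ← evalAd_eq fun y hy => h y (List.mem_cons_of_mem _ hy)]
    rfl

theorem prod_eq_of_evalAd {u v : List ℕ} (hu : ∀ x ∈ u, x < 8) (hv : ∀ x ∈ v, x < 8)
    (h : evalAd u = evalAd v) : (u.map adMat).prod = (v.map adMat).prod := by
  rw [evalAd_eq hu, evalAd_eq hv] at h
  exact enc_injective h

theorem inv_ad : ((List.range 8).all fun k => evalAd [k, k ^^^ 1] == idAd && Nat.blt (k ^^^ 1) 8) = true := by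
  decide +kernel

theorem xor_lt_eight {k : ℕ} (hk : k < 8) : k ^^^ 1 < 8 := by interval_cases k <;> decide

theorem adMat_mul_inv {k : ℕ} (hk : k < 8) : adMat k * adMat (k ^^^ 1) = 1 := by
  have h := List.all_eq_true.1 inv_ad k (List.mem_range.2 hk)
  simp only [Bool.and_eq_true, beq_iff_eq] at h
  have h' := prod_eq_of_evalAd (u := [k, k ^^^ 1]) (v := []) (by simp [hk, xor_lt_eight hk]) (by simp) h.1
  simpa using h'

theorem adMat_inv_mul {k : ℕ} (hk : k < 8) : adMat (k ^^^ 1) * adMat k = 1 := by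
  have h := adMat_mul_inv (xor_lt_eight hk)
  rwa [Nat.xor_assoc, Nat.xor_self, Nat.xor_zero] at h

/-- the place of a coordinate -/
def num14 : Cfsg.Lie.chevG2.Idx → Fin 14
  | Sum.inl i => ⟨i.val, i.isLt.trans (by decide)⟩
  | Sum.inr s => ⟨2 + s.val, by have h : (s : ℕ) < 12 := s.isLt; omega⟩

/-- the coordinate at a place -/
def idx14 (k : Fin 14) : Cfsg.Lie.chevG2.Idx :=
  if h : k.val < 2 then Sum.inl ⟨k.val, h⟩
  else Sum.inr ⟨k.val - 2, show k.val - 2 < 12 by have := k.isLt; omega⟩

/-- coordinates and places -/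
def e14 : Cfsg.Lie.chevG2.Idx ≃ Fin 14 where
  toFun := num14
  invFun := idx14
  left_inv a := by
    rcases a with i | s
    · have hi : (i : ℕ) < 2 := i.isLt
      simp [num14, idx14, hi]
    · show idx14 ⟨2 + s.val, _⟩ = _
      unfold idx14
      split
      · rename_i h
        have h' : 2 + s.val < 2 := h
        omega
      · refine congrArg Sum.inr (Fin.ext ?_)
        show 2 + s.val - 2 = s.val
        omega
  right_inv k := by
    by_cases h : k.val < 2
    · simp [num14, idx14, h]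
    · simp only [idx14, dif_neg h, num14]
      apply Fin.ext
      show 2 + (k.val - 2) = k.val
      omega

/-- matrices on places to matrices on coordinates -/
noncomputable def toIdx : (Mat 14)ˣ →* GL Cfsg.Lie.chevG2.Idx (ZMod 5) :=
  Units.map (Matrix.reindexAlgEquiv (ZMod 5) (ZMod 5) e14.symm).toRingEquiv.toRingHom.toMonoidHom

theorem toIdx_val (u : (Mat 14)ˣ) :
    ((toIdx u : GL Cfsg.Lie.chevG2.Idx (ZMod 5)) : Matrix Cfsg.Lie.chevG2.Idx Cfsg.Lie.chevG2.Idx (ZMod 5)) =
      (u : Mat 14).submatrix e14 e14 := rfl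

/-- a letter as a unit -/
noncomputable def adUnit (k : ℕ) : (Mat 14)ˣ :=
  if hk : k < 8 then ⟨adMat k, adMat (k ^^^ 1), adMat_mul_inv hk, adMat_inv_mul hk⟩ else 1

theorem adUnit_val {k : ℕ} (hk : k < 8) : ((adUnit k : (Mat 14)ˣ) : Mat 14) = adMat k := by simp [adUnit, hk]

theorem adUnit_flp (k : ℕ) : adUnit (flp k) = (adUnit k)⁻¹ := by
  show adUnit (k ^^^ 1) = _
  by_cases hk : k < 8
  · apply Units.ext
    rw [adUnit_val (xor_lt_eight hk)]
    simp [adUnit, hk]
  · have h : ¬ k ^^^ 1 < 8 := fun h => hk (by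
      have := xor_lt_eight h
      rwa [Nat.xor_assoc, Nat.xor_self, Nat.xor_zero] at this)
    simp [adUnit, hk, h]

theorem prod_adUnit {w : List ℕ} (hw : ∀ x ∈ w, x < 8) :
    (((w.map adUnit).prod : (Mat 14)ˣ) : Mat 14) = (w.map adMat).prod := by
  rw [← Units.coeHom_apply, map_list_prod, List.map_map]
  exact congrArg List.prod (List.map_congr_left fun x hx => adUnit_val (hw x hx))

theorem rels_ad : words44.all (fun w => w.all (fun x => Nat.blt x 8) && evalAd w == idAd) = true := by
  decide +kernel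

theorem adUnit_rel {w : List ℕ} (hw : w ∈ words44) : (w.map adUnit).prod = 1 := by
  have h := List.all_eq_true.1 rels_ad w hw
  simp only [Bool.and_eq_true, List.all_eq_true, Nat.blt_eq, beq_iff_eq] at h
  apply Units.ext
  rw [prod_adUnit h.1, prod_eq_of_evalAd (v := []) h.1 (by simp) h.2]
  simp

/-- The map to the adjoint matrices. -/
noncomputable def toAd : P4 →* GL Cfsg.Lie.chevG2.Idx (ZMod 5) :=
  PresentedGroup.toGroup (f := fun i : Fin 4 => toIdx (adUnit (2 * i.val))) (by
    rintro r ⟨w, hw, rfl⟩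
    rw [map_list_prod, List.map_map]
    have hfun : ∀ k ∈ w, (FreeGroup.lift fun i : Fin 4 => toIdx (adUnit (2 * i.val))) (fr k) = toIdx (adUnit k) := by
      intro k hk
      have h := List.all_eq_true.1 rels_ad w hw
      simp only [Bool.and_eq_true, List.all_eq_true, Nat.blt_eq, beq_iff_eq] at h
      have hk8 := h.1 k hk
      exact map_fr _ (fun x => toIdx (adUnit x)) (fun x => by rw [adUnit_flp, map_inv])
        (fun i => FreeGroup.lift_apply_of) hk8
    rw [List.map_congr_left (f := (FreeGroup.lift fun i : Fin 4 => toIdx (adUnit (2 * i.val))) ∘ fr)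
      (g := toIdx ∘ adUnit) hfun, ← List.map_map, ← map_list_prod, adUnit_rel hw, map_one])

theorem toAd_L {k : ℕ} (hk : k < 8) : toAd (L k) = toIdx (adUnit k) := by
  exact map_fr (toAd.comp (PresentedGroup.mk rels)) (fun x => toIdx (adUnit x))
    (fun x => by rw [adUnit_flp, map_inv]) (fun i => show toAd (PresentedGroup.of i) = _ from PresentedGroup.toGroup.of _) hk

theorem toAd_prod {w : List ℕ} (hw : ∀ x ∈ w, x < 8) : toAd (w.map L).prod = toIdx (w.map adUnit).prod := by
  rw [map_list_prod, map_list_prod, List.map_map, List.map_map]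
  exact congrArg List.prod (List.map_congr_left fun x hx => toAd_L (hw x hx))

/-- a power of a root word -/
def rootPow (r t : ℕ) : List ℕ := (List.replicate t (rootWords.getD r [])).flatten

theorem rootPow_lt : ((List.range 12).all fun r => (List.range 5).all fun t =>
    (rootPow r t).all fun x => Nat.blt x 8) = true := by decide +kernel

theorem root_check : ∀ (r : Fin Cfsg.Lie.chevG2.nroots) (t : Fin 5),
    enc (Matrix.of fun i j : Fin 14 => Cfsg.Lie.chevG2.xMat (ZMod 5) r (t : ZMod 5) (idx14 i) (idx14 j)) =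
      evalAd (rootPow r.val t.val) := by
  decide +kernel

/-- the element of a root and a parameter -/
noncomputable def rootP (r t : ℕ) : P4 := ((rootPow r t).map L).prod

theorem rootPow_mem {r t : ℕ} (hr : r < 12) (ht : t < 5) : ∀ x ∈ rootPow r t, x < 8 := by
  have h := List.all_eq_true.1 (List.all_eq_true.1 rootPow_lt r (List.mem_range.2 hr)) t (List.mem_range.2 ht)
  simpa using h

theorem toAd_rootP (r : Fin Cfsg.Lie.chevG2.nroots) (t : ZMod 5) :
    ((toAd (rootP r.val t.val) : GL Cfsg.Lie.chevG2.Idx (ZMod 5)) :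
      Matrix Cfsg.Lie.chevG2.Idx Cfsg.Lie.chevG2.Idx (ZMod 5)) = Cfsg.Lie.chevG2.xMat (ZMod 5) r t := by
  have hlt := rootPow_mem (r := r.val) (t := t.val) r.isLt (ZMod.val_lt t)
  rw [rootP, toAd_prod hlt, toIdx_val, prod_adUnit hlt]
  have h := root_check r ⟨t.val, ZMod.val_lt t⟩
  rw [evalAd_eq hlt] at h
  have h' := enc_injective h
  rw [← h']
  ext a b
  show Cfsg.Lie.chevG2.xMat (ZMod 5) r ((⟨t.val, ZMod.val_lt t⟩ : Fin 5) : ZMod 5)
      (e14.symm (e14 a)) (e14.symm (e14 b)) = _
  rw [Equiv.symm_apply_apply, Equiv.symm_apply_apply]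
  congr 1

theorem prod_flatMap_root : ∀ l : List (ℕ × ℕ),
    ((l.flatMap fun p => rootPow p.1 p.2).map L).prod = (l.map fun p => rootP p.1 p.2).prod
  | [] => rfl
  | p :: l => by
    rw [List.flatMap_cons, List.map_append, List.prod_append, List.map_cons, List.prod_cons, prod_flatMap_root l,
      rootP]

theorem gen_check : ∀ i : Fin 4, ((genWords.getD i.val []).all fun p => Nat.blt p.1 12 && Nat.blt p.2 5) = true ∧
    evalAd ((genWords.getD i.val []).flatMap fun p => rootPow p.1 p.2) = evalAd [2 * i.val] := by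
  decide +kernel

theorem range_toAd : toAd.range = Cfsg.Lie.chevG2.group (ZMod 5) := by
  refine le_antisymm ?_ ?_
  · rw [MonoidHom.range_eq_map, ← PresentedGroup.closure_range_of, MonoidHom.map_closure, Subgroup.closure_le]
    rintro _ ⟨_, ⟨i, rfl⟩, rfl⟩
    obtain ⟨hw, he⟩ := gen_check i
    simp only [List.all_eq_true, Bool.and_eq_true, Nat.blt_eq] at hw
    set G := genWords.getD i.val [] with hG
    have hlt : ∀ x ∈ G.flatMap fun p => rootPow p.1 p.2, x < 8 := by
      intro x hx
      obtain ⟨p, hp, hx⟩ := List.mem_flatMap.1 hx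
      exact rootPow_mem (hw p hp).1 (hw p hp).2 x hx
    have h2 : 2 * i.val < 8 := by omega
    have hgen : (PresentedGroup.of i : P4) = L (2 * i.val) := by fin_cases i <;> rfl
    have heq : toAd (PresentedGroup.of i) = toAd ((G.flatMap fun p => rootPow p.1 p.2).map L).prod := by
      rw [hgen, toAd_L h2, toAd_prod hlt]
      congr 1
      apply Units.ext
      rw [adUnit_val h2, prod_adUnit hlt, prod_eq_of_evalAd hlt (v := [2 * i.val]) (by simp [h2]) he]
      simp
    rw [heq, prod_flatMap_root, map_list_prod, List.map_map]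
    refine Subgroup.list_prod_mem _ fun x hx => ?_
    obtain ⟨p, hp, rfl⟩ := List.mem_map.1 hx
    refine Subgroup.subset_closure ⟨⟨p.1, (hw p hp).1⟩, ((p.2 : ℕ) : ZMod 5), ?_⟩
    rw [← toAd_rootP, ZMod.val_natCast_of_lt (hw p hp).2]
    rfl
  · rw [Cfsg.Lie.ChevalleyDatum.group, Subgroup.closure_le]
    rintro g ⟨r, t, hg⟩
    exact ⟨rootP r.val t.val, Units.ext ((toAd_rootP r t).trans hg.symm)⟩

end CfsgLib.Sporadic.LyGTwo
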