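import Mathlib

/-!
# The generators in the adjoint group of type G₂ over five elements (owner: helper25)
-/

set_option autoImplicit false
set_option maxRecDepth 20000

namespace CfsgLib.Sporadic.LyGTwo

/-- The fourteen-dimensional matrices of the eight letters. -/
def adRows : List (List (List ℕ)) := [
  [[3,4,0,0,0,0,2,0,0,4,0,0,0,0],
    [0,1,0,0,0,0,0,0,0,0,0,0,0,0],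
    [0,0,2,0,0,0,0,0,0,0,0,0,0,0],
    [0,0,0,3,3,4,0,4,0,0,0,0,0,0],
    [0,0,0,3,4,0,0,3,0,0,0,0,0,0],
    [0,0,0,2,0,1,0,4,0,0,0,0,0,0],
    [3,1,0,0,0,0,3,0,0,3,0,0,0,0],
    [0,0,0,3,1,1,0,2,0,0,0,0,0,0],
    [0,0,0,0,0,0,0,0,4,0,4,3,3,0],
    [4,3,0,0,0,0,2,0,0,3,0,0,0,0],
    [0,0,0,0,0,0,0,0,4,0,2,0,1,0],
    [0,0,0,0,0,0,0,0,4,0,0,3,2,0],
    [0,0,0,0,0,0,0,0,1,0,2,3,1,0],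
    [0,0,0,0,0,0,0,0,0,0,0,0,0,3]],
  [[3,4,0,0,0,0,2,0,0,4,0,0,0,0],
    [0,1,0,0,0,0,0,0,0,0,0,0,0,0],
    [0,0,3,0,0,0,0,0,0,0,0,0,0,0],
    [0,0,0,1,1,3,0,3,0,0,0,0,0,0],
    [0,0,0,1,3,0,0,1,0,0,0,0,0,0],
    [0,0,0,4,0,2,0,3,0,0,0,0,0,0],
    [3,1,0,0,0,0,3,0,0,3,0,0,0,0],
    [0,0,0,1,2,2,0,4,0,0,0,0,0,0],
    [0,0,0,0,0,0,0,0,2,0,2,4,4,0],
    [4,3,0,0,0,0,2,0,0,3,0,0,0,0],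
    [0,0,0,0,0,0,0,0,2,0,1,0,3,0],
    [0,0,0,0,0,0,0,0,2,0,0,4,1,0],
    [0,0,0,0,0,0,0,0,3,0,1,4,3,0],
    [0,0,0,0,0,0,0,0,0,0,0,0,0,2]],
  [[1,0,0,0,0,0,1,0,0,0,0,0,0,0],
    [0,1,0,0,0,0,0,0,0,0,0,0,0,0],
    [0,0,1,0,0,0,0,0,0,0,0,0,0,0],
    [0,0,0,1,0,0,0,0,0,0,0,0,0,0],
    [0,0,0,4,1,0,0,0,0,0,0,0,0,0],
    [0,0,0,4,2,1,0,0,0,0,0,0,0,0],
    [0,0,0,0,0,0,1,0,0,0,0,0,0,0],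
    [0,0,0,4,3,3,0,1,0,0,0,0,0,0],
    [0,0,0,0,0,0,0,0,1,0,0,0,0,0],
    [3,1,0,0,0,0,4,0,0,1,0,0,0,0],
    [0,0,0,0,0,0,0,0,4,0,1,0,0,0],
    [0,0,0,0,0,0,0,0,1,0,3,1,0,0],
    [0,0,0,0,0,0,0,0,1,0,2,3,1,0],
    [0,0,0,0,0,0,0,0,0,0,0,0,0,1]],
  [[1,0,0,0,0,0,4,0,0,0,0,0,0,0],
    [0,1,0,0,0,0,0,0,0,0,0,0,0,0],
    [0,0,1,0,0,0,0,0,0,0,0,0,0,0],
    [0,0,0,1,0,0,0,0,0,0,0,0,0,0],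
    [0,0,0,1,1,0,0,0,0,0,0,0,0,0],
    [0,0,0,4,3,1,0,0,0,0,0,0,0,0],
    [0,0,0,0,0,0,1,0,0,0,0,0,0,0],
    [0,0,0,1,3,2,0,1,0,0,0,0,0,0],
    [0,0,0,0,0,0,0,0,1,0,0,0,0,0],
    [2,4,0,0,0,0,4,0,0,1,0,0,0,0],
    [0,0,0,0,0,0,0,0,1,0,1,0,0,0],
    [0,0,0,0,0,0,0,0,1,0,2,1,0,0],
    [0,0,0,0,0,0,0,0,4,0,2,2,1,0],
    [0,0,0,0,0,0,0,0,0,0,0,0,0,1]],
  [[1,0,4,2,4,1,0,0,0,0,0,0,0,0],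
    [0,1,0,2,1,3,0,0,0,0,0,0,0,0],
    [0,0,1,0,0,0,0,0,0,0,0,0,0,0],
    [0,0,0,1,0,0,0,0,0,0,0,0,0,0],
    [0,0,4,0,1,0,0,0,0,0,0,0,0,0],
    [0,0,2,0,0,1,0,0,0,0,0,0,0,0],
    [0,0,1,2,3,0,1,0,0,0,0,0,0,0],
    [0,0,2,0,0,0,0,1,0,0,0,0,0,0],
    [0,0,1,3,2,0,3,0,1,0,0,0,0,0],
    [0,0,4,0,2,1,0,4,0,1,0,0,0,0],
    [1,4,1,4,0,4,4,0,0,0,1,0,0,0],
    [3,0,1,1,0,0,3,4,0,2,0,1,0,0],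
    [4,2,4,1,3,2,0,3,0,4,0,0,1,0],
    [4,3,0,1,2,2,2,4,3,3,4,3,0,1]],
  [[1,0,4,3,1,4,0,0,0,0,0,0,0,0],
    [0,1,0,3,4,2,0,0,0,0,0,0,0,0],
    [0,0,1,0,0,0,0,0,0,0,0,0,0,0],
    [0,0,0,1,0,0,0,0,0,0,0,0,0,0],
    [0,0,1,0,1,0,0,0,0,0,0,0,0,0],
    [0,0,3,0,0,1,0,0,0,0,0,0,0,0],
    [0,0,1,3,2,0,1,0,0,0,0,0,0,0],
    [0,0,3,0,0,0,0,1,0,0,0,0,0,0],
    [0,0,4,3,2,0,2,0,1,0,0,0,0,0],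
    [0,0,4,0,3,4,0,1,0,1,0,0,0,0],
    [4,1,4,4,0,4,1,0,0,0,1,0,0,0],
    [2,0,4,1,0,0,2,4,0,3,0,1,0,0],
    [1,3,1,1,3,2,0,3,0,1,0,0,1,0],
    [4,3,0,4,3,3,2,1,2,3,1,2,0,1]],
  [[1,4,0,0,0,0,0,0,0,0,0,0,0,0],
    [0,4,0,0,0,0,0,0,0,0,0,0,0,0],
    [0,0,0,0,0,0,0,0,0,0,0,0,0,4],
    [0,0,0,0,0,0,0,0,1,0,0,0,0,0],
    [0,0,0,0,0,0,0,0,0,0,1,0,0,0],
    [0,0,0,0,0,0,0,0,0,0,0,4,0,0],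
    [0,0,0,0,0,0,1,0,0,0,0,0,0,0],
    [0,0,0,0,0,0,0,0,0,0,0,0,4,0],
    [0,0,0,4,0,0,0,0,0,0,0,0,0,0],
    [0,0,0,0,0,0,0,0,0,1,0,0,0,0],
    [0,0,0,0,4,0,0,0,0,0,0,0,0,0],
    [0,0,0,0,0,1,0,0,0,0,0,0,0,0],
    [0,0,0,0,0,0,0,1,0,0,0,0,0,0],
    [0,0,4,0,0,0,0,0,0,0,0,0,0,0]],
  [[1,4,0,0,0,0,0,0,0,0,0,0,0,0],
    [0,4,0,0,0,0,0,0,0,0,0,0,0,0],
    [0,0,0,0,0,0,0,0,0,0,0,0,0,4],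
    [0,0,0,0,0,0,0,0,4,0,0,0,0,0],
    [0,0,0,0,0,0,0,0,0,0,4,0,0,0],
    [0,0,0,0,0,0,0,0,0,0,0,1,0,0],
    [0,0,0,0,0,0,1,0,0,0,0,0,0,0],
    [0,0,0,0,0,0,0,0,0,0,0,0,1,0],
    [0,0,0,1,0,0,0,0,0,0,0,0,0,0],
    [0,0,0,0,0,0,0,0,0,1,0,0,0,0],
    [0,0,0,0,1,0,0,0,0,0,0,0,0,0],
    [0,0,0,0,0,4,0,0,0,0,0,0,0,0],
    [0,0,0,0,0,0,0,4,0,0,0,0,0,0],
    [0,0,4,0,0,0,0,0,0,0,0,0,0,0]]]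

/-- A word in the letters for each root element with parameter one. -/
def rootWords : List (List ℕ) := [
  [7, 4, 3, 4, 2, 5, 3, 5, 2, 4, 3, 4, 2, 5, 3, 5, 2, 4, 3, 4, 2, 5, 3, 5, 2, 4, 3, 4, 2, 5, 3, 5, 2, 6],
  [7, 1, 4, 4, 0, 2, 4, 3, 1, 4, 4, 0, 2, 4, 3, 1, 4, 4, 0, 2, 4, 3, 1, 4, 4, 0, 2, 4, 3, 6],
  [7, 2, 4, 4, 4, 4, 3, 6],
  [7, 3, 4, 2, 4, 2, 5, 5, 3, 6],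
  [0, 0, 3, 0, 3, 3, 0],
  [7, 4, 3, 5, 2, 4, 2, 5, 3, 6],
  [1, 4, 4, 0, 2, 4, 3],
  [2],
  [2, 4, 3],
  [3, 4, 2, 4, 2, 5, 5, 3],
  [4, 3, 5, 2, 4, 2, 5, 3],
  [4, 3, 4, 2, 5, 3, 5, 2]]

/-- The letters as products of root elements. -/
def genWords : List (List (ℕ × ℕ)) := [
  [(6, 2), (5, 2), (6, 2), (6, 4), (5, 1), (6, 4), (6, 2), (5, 2), (6, 2), (6, 4), (5, 1), (6, 4), (7, 1), (4, 1), (6, 2), (5, 2), (6, 2), (6, 4), (5, 1), (6, 4)],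
  [(7, 1)],
  [(7, 1), (4, 4), (7, 1), (6, 1), (5, 4), (6, 1), (7, 1), (6, 4), (5, 1), (6, 4), (7, 4), (4, 1), (7, 4), (6, 1), (5, 4), (6, 1), (7, 1), (6, 4), (5, 1), (6, 4), (7, 1), (4, 4), (7, 1), (6, 1), (5, 4), (6, 1), (7, 1), (6, 4), (5, 1), (6, 4), (7, 4), (4, 1), (7, 4), (7, 1), (4, 4), (7, 1), (6, 1), (7, 4), (4, 1), (7, 4), (7, 1), (4, 4), (7, 1), (6, 1), (7, 4), (4, 1), (7, 4)],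
  [(6, 1), (5, 4), (6, 1), (7, 1), (4, 4), (7, 1), (6, 1), (7, 4), (4, 1), (7, 4), (6, 4), (5, 1), (6, 4), (7, 2), (4, 2), (7, 2), (7, 4), (4, 1), (7, 4), (6, 2), (5, 2), (6, 2), (6, 4), (5, 1), (6, 4), (6, 2), (5, 2), (6, 2), (6, 4), (5, 1), (6, 4), (6, 1), (5, 4), (6, 1), (7, 1), (4, 4), (7, 1), (5, 1), (7, 4), (4, 1), (7, 4), (6, 4), (5, 1), (6, 4), (7, 2), (4, 2), (7, 2), (7, 4), (4, 1), (7, 4), (6, 2), (5, 2), (6, 2), (6, 4), (5, 1), (6, 4), (6, 2), (5, 2), (6, 2), (6, 4), (5, 1), (6, 4), (6, 1), (5, 4), (6, 1), (7, 1), (4, 4), (7, 1), (6, 1), (7, 4), (4, 1), (7, 4), (6, 4), (5, 1), (6, 4)]]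

end CfsgLib.Sporadic.LyGTwo
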