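import Cfsg.Agent.Lib.Sporadic.LyGTwo.Ad
import Cfsg.Agent.Lib.Sporadic.LyGTwo.Bound
import Cfsg.Agent.Lib.Sporadic.LyRep.Hom
import Cfsg.Agent.Lib.Known.G2Oct.Iso
import Cfsg.Agent.Lib.Lie.Rel.Facts

/-!
# The group in four letters is G₂(5); it embeds in the presented Lyons group (owner: helper25)
-/

set_option autoImplicit false
set_option maxRecDepth 20000

namespace CfsgLib.Sporadic.LyGTwo

open Cfsg CfsgLib.Sporadic
open CfsgLib.Classical.SylowAb.Octonion (card_G2)

theorem card_chev : Nat.card ↥(Cfsg.Lie.chevG2.group (ZMod 5)) = 5859000000 := by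
  obtain ⟨e⟩ := CfsgLib.Known.G2Oct.nonempty_mulEquiv (F := ZMod 5)
  rw [Nat.card_congr e.toEquiv, card_G2, ZMod.card]
  have h := CfsgLib.Classical.card_SL (F := ZMod 5) 3 (by norm_num)
  rw [Fin.prod_univ_three, ZMod.card] at h
  norm_num at h ⊢
  omega

/-- The group in four letters onto the Chevalley group. -/
noncomputable def toChev : P4 →* ↥(Cfsg.Lie.chevG2.group (ZMod 5)) :=
  (MulEquiv.subgroupCongr range_toAd).toMonoidHom.comp toAd.rangeRestrict

theorem toChev_surjective : Function.Surjective toChev :=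
  (MulEquiv.subgroupCongr range_toAd).surjective.comp toAd.rangeRestrict_surjective

theorem toChev_bijective : Function.Bijective toChev := by
  obtain ⟨_, hle⟩ := card_P4
  have hge := Nat.card_le_card_of_surjective _ toChev_surjective
  rw [card_chev] at hge
  exact (Nat.bijective_iff_surjective_and_card _).2 ⟨toChev_surjective, by rw [card_chev]; omega⟩

/-- The isomorphism with the Chevalley group. -/
noncomputable def chevEquiv : P4 ≃* ↥(Cfsg.Lie.chevG2.group (ZMod 5)) :=
  MulEquiv.ofBijective toChev toChev_bijective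

theorem card_P4_eq : Nat.card P4 = 5859000000 := by rw [Nat.card_congr chevEquiv.toEquiv, card_chev]

theorem isSimple_P4 : IsSimpleGroup P4 := by
  have hF : ∃ a : ZMod 5, a ≠ 0 ∧ a ≠ 1 := ⟨2, by decide, by decide⟩
  have := (CfsgLib.Lie.Chev.isSimple CfsgLib.Lie.Chev.certG2 (ZMod 5)
    (CfsgLib.Lie.Chev.connected_of_mem (by simp))
    (CfsgLib.Lie.Chev.perfectData_of_big CfsgLib.Lie.Chev.certG2 (by decide +kernel) (ZMod 5) hF)).1
  have : Nontrivial P4 := chevEquiv.toEquiv.nontrivial
  exact IsSimpleGroup.isSimpleGroup_of_surjective chevEquiv.symm.toMonoidHom chevEquiv.symm.surjective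

theorem toLy_aux : ∀ r ∈ rels, FreeGroup.lift (fun i : Fin 4 => LyGroup.gl (2 * i.val)) r = 1 := by
  rintro r ⟨w, hw, rfl⟩
  have hlt : ∀ k ∈ w, k < 8 := by
    have h := List.all_eq_true.1 rels_ad w hw
    simp only [Bool.and_eq_true, List.all_eq_true, Nat.blt_eq, beq_iff_eq] at h
    exact h.1
  rw [map_list_prod, List.map_map]
  rw [List.map_congr_left (f := (FreeGroup.lift fun i : Fin 4 => LyGroup.gl (2 * i.val)) ∘ fr) (g := LyGroup.gl)
    fun k hk => map_fr _ LyGroup.gl LyGroup.gl_flp (fun i => FreeGroup.lift_apply_of) (hlt k hk)]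
  exact LyGroup.gl_wordsFour hw

/-- The map into the presented Lyons group. -/
noncomputable def toLy : P4 →* Spor.Ly := PresentedGroup.toGroup toLy_aux

theorem toLy_of (i : Fin 4) : toLy (PresentedGroup.of i) = LyGroup.gl (2 * i.val) := PresentedGroup.toGroup.of _

theorem toLy_injective : Function.Injective toLy := by
  have := isSimple_P4
  rcases toLy.normal_ker.eq_bot_or_eq_top with h | h
  · exact (MonoidHom.ker_eq_bot_iff _).1 h
  · exfalso
    have hc : toLy (PresentedGroup.of (2 : Fin 4)) = 1 := by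
      rw [← MonoidHom.mem_ker, h]; exact Subgroup.mem_top _
    rw [toLy_of, show LyGroup.gl (2 * ((2 : Fin 4) : ℕ)) = PresentedGroup.of Spor.Ly.Gen.c from rfl] at hc
    exact LyRep.rho_c_ne (by rw [hc, map_one])

theorem range_toLy : toLy.range =
    ((Subgroup.closure ({Spor.Ly.a, Spor.Ly.b, Spor.Ly.c, Spor.Ly.d} : Set (FreeGroup Spor.Ly.Gen))).map
      (PresentedGroup.mk (Spor.coxRelators Spor.Ly.edges ∪ {r | r ∈ Spor.Ly.extra}))) := by
  rw [MonoidHom.range_eq_map, ← PresentedGroup.closure_range_of, MonoidHom.map_closure, MonoidHom.map_closure]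
  congr 1
  rw [← Set.range_comp, Set.image_insert_eq, Set.image_insert_eq, Set.image_insert_eq, Set.image_singleton]
  ext x
  simp only [Set.mem_range, Function.comp_apply, toLy_of, Set.mem_insert_iff, Set.mem_singleton_iff]
  constructor
  · rintro ⟨i, rfl⟩
    fin_cases i
    exacts [Or.inl rfl, Or.inr (Or.inl rfl), Or.inr (Or.inr (Or.inl rfl)), Or.inr (Or.inr (Or.inr rfl))]
  · rintro (rfl | rfl | rfl | rfl)
    exacts [⟨0, rfl⟩, ⟨1, rfl⟩, ⟨2, rfl⟩, ⟨3, rfl⟩]

end CfsgLib.Sporadic.LyGTwo
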